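import Cfsg.Agent.RGD.Central

set_option autoImplicit false

/-! Equivariant lifts of root groups; reduction of the conditions to simple roots. -/

namespace Cfsg.Agent.RGD

open Subgroup Cfsg.Agent.Cover
open scoped commutatorElement Pointwise

namespace RootComb

variable {Φ ι : Type*} {R : RootComb Φ ι} {E G : Type*} [Group E] [Group G] {π : E →* G}
  {X : Φ → Subgroup G} {Y : Φ → Subgroup E}

variable (R) in
/-- the family `Y` is permuted by the lifts of the elements `m(u)` -/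
def Natural (π : E →* G) (X : Φ → Subgroup G) (Y : Φ → Subgroup E) : Prop :=
  ∀ i n, R.IsM X i (π n) → ∀ r, cj n (Y r) = Y (R.s i r)

theorem center_le_Tor : center E ≤ Tor Y := fun z hz => mem_Tor.2 fun r => by
  ext x
  rw [mem_cj, mul_assoc, mem_center_iff.1 hz x, ← mul_assoc, inv_mul_cancel, one_mul]

theorem Natural.tor (h : R.Natural π X Y) (hπ : Function.Surjective π) (hc : π.ker ≤ center E) :
    (R.H0 X).comap π ≤ Tor Y := by
  have : R.H0 X ≤ (Tor Y).map π := by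
    refine iSup_le fun i => (closure_le _).2 ?_
    rintro _ ⟨m, m', h1, h2, rfl⟩
    obtain ⟨m, rfl⟩ := hπ m
    obtain ⟨m', rfl⟩ := hπ m'
    refine ⟨m * m'⁻¹, mem_Tor.2 fun r => ?_, by simp⟩
    rw [cj_mul, h i m'⁻¹ (by rw [map_inv]; exact h2.inv), h i m h1, R.s_s]
  refine (comap_mono this).trans ?_
  rw [comap_map_eq]
  exact sup_le le_rfl (hc.trans center_le_Tor)

theorem Natural.word (h : R.Natural π X Y) (hπ : Function.Surjective π) (hX : R.IsRGD X)
    (l : List ι) : ∃ n, R.Acts Y n l ∧ R.NW X l (π n) := by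
  induction l with
  | nil => exact ⟨1, fun r => cj_one _, by rw [map_one]; exact NW.nil⟩
  | cons i l ih =>
    obtain ⟨n, hn, hn'⟩ := ih
    obtain ⟨m, hm⟩ := hX.exists_isM i
    obtain ⟨m, rfl⟩ := hπ m
    exact ⟨m * n, Acts.mul (l := [i]) (h i m hm) hn, by rw [map_mul]; exact NW.cons hm hn'⟩

theorem Natural.equiv (h : R.Natural π X Y) (hπ : Function.Surjective π) (hX : R.IsRGD X) :
    R.Equiv Y := fun i => by
  obtain ⟨n, hn, -⟩ := h.word hπ hX [i]
  exact ⟨n, hn⟩

theorem Natural.over (h : R.Natural π X Y) (hπ : Function.Surjective π) (hX : R.IsRGD X)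
    (h1 : ∀ i, (Y (R.α i)).map π = X (R.α i) ∧ Y (R.α i) ⊓ π.ker = ⊥) : Over π Y X := by
  have : ∀ r, (Y r).map π = X r ∧ Y r ⊓ π.ker = ⊥ := by
    intro r
    obtain ⟨l, i, rfl⟩ := R.reach r
    obtain ⟨n, hn, hn'⟩ := h.word hπ hX l
    refine ⟨by rw [← hn, map_cj, (h1 i).1, hn'.acts], ?_⟩
    rw [← hn, ← cj_ker π n, ← cj_inf, cj_eq_bot, (h1 i).2]
  exact ⟨fun r => (this r).1, fun r => (this r).2⟩

theorem Natural.commRel [Finite Φ] (h : R.Natural π X Y) (hπ : Function.Surjective π)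
    (hc : π.ker ≤ center E) (hX : R.Good X) (o : Over π Y X)
    (hp : ∀ i s, s ≠ R.α i → s ≠ R.neg (R.α i) → R.PairOK X (R.H0 X) Y (R.α i) s) :
    R.CommRel Y := by
  refine o.commRel hπ hc hX (h.equiv hπ hX.toIsRGD) (h.tor hπ hc) fun r s h1 h2 => ?_
  obtain ⟨l, i, rfl⟩ := R.reach r
  obtain ⟨n, hn, hn'⟩ := h.word hπ hX.toIsRGD l
  rw [← R.wd_wd_reverse l s] at h1 h2 ⊢
  rcases hp i (R.wd l.reverse s) (fun e => h1 (by rw [e]))
    (fun e => h2 (by rw [e, R.wd_neg])) with h3 | h3 | h3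
  · exact Or.inl (h3.conj hn'.acts hn'.cj_H0)
  · exact Or.inr (Or.inl (h3.conj hn'.acts hn'.cj_H0))
  · exact Or.inr (Or.inr (hn.comm_le h3))

theorem Natural.isRGD (h : R.Natural π X Y) (o : Over π Y X) (hX : R.IsRGD X)
    (hc : R.CommRel Y) : R.IsRGD Y where
  comm := hc
  exM i u hu h1 := by
    obtain ⟨v, hv, v', hv', h2⟩ := hX.isM_of (o.mem hu) (fun h => h1 (o.eq_one hu h))
    obtain ⟨w, hw, rfl⟩ := o.exists_mem hv
    obtain ⟨w', hw', rfl⟩ := o.exists_mem hv'
    exact ⟨w, hw, w', hw', h i _ (by simpa using h2)⟩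
  ne_bot i h := hX.ne_bot i (by rw [← o.map, h, Subgroup.map_bot])
  neg_inf i := by
    rw [eq_bot_iff]
    rintro x ⟨h1, h2⟩
    have : π x ∈ X (R.neg (R.α i)) ⊓ US X R.Pos := ⟨o.mem h1, o.mem_US h2⟩
    rw [hX.neg_inf] at this
    exact o.eq_one h1 this

theorem natural_comap : R.Natural π X fun r => (X r).comap π := fun _ _ h r => by
  rw [cj_comap, h.2]

theorem natural_torus : R.Natural π X fun r => ⁅(R.H0 X).comap π, (X r).comap π⁆ :=
  fun _ _ h r => by rw [cj_commutator, cj_comap, cj_comap, h.2, h.cj_H0]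

/-- the join of the commutators over the decompositions of a root -/
def Yc (π : E →* G) (X : Φ → Subgroup G) (D : Φ → Φ → Φ → Prop) (r : Φ) : Subgroup E :=
  ⨆ (a) (b) (_ : D a b r), ⁅(X a).comap π, (X b).comap π⁆

theorem le_Yc {D : Φ → Φ → Φ → Prop} {a b r : Φ} (h : D a b r) :
    ⁅(X a).comap π, (X b).comap π⁆ ≤ Yc π X D r :=
  le_iSup_of_le a (le_iSup_of_le b (le_iSup_of_le h le_rfl))

theorem Yc_le {D : Φ → Φ → Φ → Prop} {r : Φ} {Z : Subgroup E}
    (h : ∀ a b, D a b r → ⁅(X a).comap π, (X b).comap π⁆ ≤ Z) : Yc π X D r ≤ Z :=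
  iSup_le fun a => iSup_le fun b => iSup_le fun h' => h a b h'

theorem natural_Yc {D : Φ → Φ → Φ → Prop}
    (hD : ∀ i a b r, D a b r → D (R.s i a) (R.s i b) (R.s i r)) : R.Natural π X (Yc π X D) := by
  have : ∀ i n, R.IsM X i (π n) → ∀ r, cj n (Yc π X D r) ≤ Yc π X D (R.s i r) := by
    intro i n h r
    rw [cj, map_le_iff_le_comap]
    refine Yc_le fun a b h' => map_le_iff_le_comap.1 ?_
    change cj n _ ≤ _
    rw [cj_commutator, cj_comap, cj_comap, h.2, h.2]
    exact le_Yc (hD i a b r h')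
  intro i n h r
  refine cj_eq_of_le (this i n h r) ?_
  have := this i n⁻¹ (by rw [map_inv]; exact h.inv) (R.s i r)
  rwa [R.s_s] at this

open Classical in
theorem Natural.ite {Y' : Φ → Subgroup E} (h : R.Natural π X Y) (h' : R.Natural π X Y')
    {L : Φ → Prop} (hL : ∀ i r, L (R.s i r) ↔ L r) :
    R.Natural π X fun r => if L r then Y r else Y' r := by
  intro i n hn r
  by_cases e : L r
  · simp only [e, (hL i r).2 e, if_true]; exact h i n hn r
  · simp only [e, (hL i r).not.2 e, if_false]; exact h' i n hn r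

theorem Over.le_comap (o : Over π Y X) (r : Φ) : Y r ≤ (X r).comap π := fun _ h => o.mem h

theorem Over.pair_of_bot (o : Over π Y X) {T : Subgroup G} {r s : Φ}
    (h : ⁅(X r).comap π, (X s).comap π⁆ = ⊥) : R.PairOK X T Y r s :=
  Or.inr (Or.inr ((commutator_mono (o.le_comap r) (o.le_comap s)).trans (h ▸ bot_le)))

/-- transport of commutation upstairs -/
theorem IsRGD.comm_bot_wd (hX : R.IsRGD X) (hπ : Function.Surjective π) (l : List ι) {r s : Φ}
    (h : ⁅(X r).comap π, (X s).comap π⁆ = ⊥) :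
    ⁅(X (R.wd l r)).comap π, (X (R.wd l s)).comap π⁆ = ⊥ := by
  obtain ⟨n, hn, -⟩ := (natural_comap (π := π)).word hπ hX l
  have h1 := hn r
  have h2 := hn s
  simp only at h1 h2
  rw [← h1, ← h2, ← cj_commutator, cj_eq_bot, h]

/-- the splitting criterion -/
theorem Over.inf_ker_eq_bot [Finite Φ] (o : Over π Y X) (hY : R.IsRGD Y) (hX : R.Good X)
    (h : R.H0 Y ⊓ π.ker = ⊥) : US Y Set.univ ⊓ π.ker = ⊥ := by
  rw [eq_bot_iff, ← h]
  exact le_inf (by rw [inf_comm]; exact o.ker_le hY hX) inf_le_right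

theorem Over.ker_eq_bot (o : Over π Y X) (hs : IsStemExtension π) (ht : US X Set.univ = ⊤)
    (h : US Y Set.univ ⊓ π.ker = ⊥) : π.ker = ⊥ := by
  refine ker_eq_bot_of_compl hs _ (fun g => ?_) h
  have : g ∈ (US Y Set.univ).map π := by rw [o.map_US, ht]; exact mem_top g
  exact this

end RootComb

end Cfsg.Agent.RGD
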